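import Groth.Prelude.Def_W4c6secantcecoversSchSt
import Mathlib

/-!
# Self-adjointness of the Scheja–Storch differential
-/

set_option autoImplicit false

universe u v

open TensorProduct W4c6secantcecovers

noncomputable section

namespace Groth.Agent.SSAdj

variable {R : Type u} [CommRing R] {r : ℕ}

theorem ssContr_ι_mul (j : Fin r) (a : Fin r → R) (b : SSLam R r) :
    ssContr R r j (ExteriorAlgebra.ι R a * b) = a j • b - ExteriorAlgebra.ι R a * ssContr R r j b := by
  exact CliffordAlgebra.contractLeft_ι_mul _ a b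

theorem ssContr_one (j : Fin r) : ssContr R r j 1 = 0 := by
  exact CliffordAlgebra.contractLeft_one (Q := (0 : QuadraticForm R (Fin r → R))) _

theorem ssContr_mul (j : Fin r) : ∀ {n : ℕ} (e : Fin n → (Fin r → R)) (x : SSLam R r),
    ssContr R r j (ExteriorAlgebra.ιMulti R n e * x) =
      ssContr R r j (ExteriorAlgebra.ιMulti R n e) * x + (-1 : R) ^ n • (ExteriorAlgebra.ιMulti R n e * ssContr R r j x) := by
  intro n
  induction n with
  | zero =>
    intro e x
    rw [ExteriorAlgebra.ιMulti_zero_apply, one_mul, ssContr_one, zero_mul, zero_add, pow_zero, one_smul, one_mul]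
  | succ n ih =>
    intro e x
    rw [ExteriorAlgebra.ιMulti_succ_apply, mul_assoc, ssContr_ι_mul, ssContr_ι_mul, ih, sub_mul, smul_mul_assoc,
      mul_add, pow_succ, mul_neg_one, neg_smul, mul_smul_comm]
    simp only [mul_assoc]
    abel

theorem ιMulti_eq_zero (v : Fin (r + 1) → (Fin r → R)) : ExteriorAlgebra.ιMulti R (r + 1) v = 0 := by
  have h : (ExteriorAlgebra.ιMulti R (r + 1) : (Fin r → R) [⋀^Fin (r + 1)]→ₗ[R] SSLam R r) = 0 :=
    Module.Basis.ext_alternating (Pi.basisFun R (Fin r)) fun w hw => absurd (Fintype.card_le_of_injective w hw) (by simp)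
  rw [h]; rfl

theorem mul_eq_zero_of_deg {m n : ℕ} (h : m + n = r + 1) (e : Fin m → (Fin r → R)) (f : Fin n → (Fin r → R)) :
    (ExteriorAlgebra.ιMulti R m e * ExteriorAlgebra.ιMulti R n f : SSLam R r) = 0 := by
  have happ : ExteriorAlgebra.ιMulti R (m + n) (Fin.append e f) =
      ExteriorAlgebra.ιMulti R m e * ExteriorAlgebra.ιMulti R n f := by
    rw [ExteriorAlgebra.ιMulti_apply, ExteriorAlgebra.ιMulti_apply, ExteriorAlgebra.ιMulti_apply, ← List.prod_append,
      ← List.ofFn_fin_append]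
    congr 1
    refine List.ofFn_inj.2 (funext fun i => ?_)
    induction i using Fin.addCases <;> simp
  rw [← happ]
  have h0 : ∀ q, q = r + 1 → ∀ v : Fin q → (Fin r → R), (ExteriorAlgebra.ιMulti R q v : SSLam R r) = 0 := by
    rintro q rfl v; exact ιMulti_eq_zero _
  exact h0 _ h _

theorem contr_mul_eq (j : Fin r) {k : ℕ} (hk : k < r) (e : Fin (k + 1) → (Fin r → R)) (f : Fin (r - k) → (Fin r → R)) :
    ssContr R r j (ExteriorAlgebra.ιMulti R (k + 1) e) * ExteriorAlgebra.ιMulti R (r - k) f =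
      (-1 : R) ^ k • (ExteriorAlgebra.ιMulti R (k + 1) e * ssContr R r j (ExteriorAlgebra.ιMulti R (r - k) f)) := by
  have h := ssContr_mul j e (ExteriorAlgebra.ιMulti R (r - k) f)
  rw [mul_eq_zero_of_deg (by omega) e f, map_zero, pow_succ, mul_neg_one, neg_smul] at h
  exact add_neg_eq_zero.1 h.symm

variable {N : Type v} [AddCommGroup N] [Module R N]

theorem ssPair_tmul (β : N →ₗ[R] N →ₗ[R] R) (k : ℕ) (b b' : SSB R r) (n m : N) :
    ssPair R r N β k (b ⊗ₜ[R] n) (b' ⊗ₜ[R] m) = (-1 : R) ^ k.choose 2 • β n m • (b * b') := by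
  simp [ssPair, ssPairAux]

theorem pair_delta (φ : Fin r → (N →ₗ[R] N)) (β : N →ₗ[R] N →ₗ[R] R)
    (hβ : ∀ (j : Fin r) (n m : N), β (φ j n) m = β n (φ j m))
    (k : ℕ) (hk : k < r)
    (e : Fin (k + 1) → (Fin r → R)) (f : Fin (r - k) → (Fin r → R))
    (s t : MvPolynomial (Fin r) R) (n m : N) :
    ssPair R r N β k (ssDelta R r N φ ((ExteriorAlgebra.ιMulti R (k + 1) e ⊗ₜ[R] s) ⊗ₜ[R] n))
        ((ExteriorAlgebra.ιMulti R (r - k) f ⊗ₜ[R] t) ⊗ₜ[R] m) =
      ssPair R r N β (k + 1) ((ExteriorAlgebra.ιMulti R (k + 1) e ⊗ₜ[R] s) ⊗ₜ[R] n)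
        (ssDelta R r N φ ((ExteriorAlgebra.ιMulti R (r - k) f ⊗ₜ[R] t) ⊗ₜ[R] m)) := by
  simp only [ssDelta, LinearMap.sum_apply, LinearMap.add_apply, LinearMap.smul_apply, ssDKoszul, ssDAct,
    TensorProduct.map_tmul, LinearMap.mulLeft_apply, LinearMap.id_apply, map_sum, map_add, map_smul, ssPair_tmul,
    Algebra.TensorProduct.tmul_mul_tmul]
  refine Finset.sum_congr rfl fun j _ => ?_
  have hc : (k + 1).choose 2 = k.choose 2 + k := by rw [Nat.choose_succ_succ', Nat.choose_one_right, add_comm]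
  rw [hc, contr_mul_eq j hk e f, hβ, show s * (MvPolynomial.X j * t) = MvPolynomial.X j * s * t by ring]
  simp only [pow_add, ← TensorProduct.smul_tmul', smul_smul]
  ring_nf

end Groth.Agent.SSAdj
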